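import Cfsg.Agent.H269.Rg.NineRes
import Cfsg.Agent.H449.Reg.Abs
import Cfsg.Agent.H956.OrthIndex
import Cfsg.Agent.H957.Bridge
import Cfsg.Agent.S5835
import Cfsg.Agent.S5836

/-!
# S3691-T7: the list lemma in dimension nine (helper269)
-/

set_option autoImplicit false
set_option linter.unusedSectionVars false

namespace Cfsg.Agent.H269.Rg

open Module QuadraticMap Cfsg Cfsg.Geo Cfsg.Agent.LieClassical.OrthCore Cfsg.Agent.LieClassical.OrthTrans
  Cfsg.Agent.H955 Cfsg.Agent.H954.TSing Cfsg.Agent.H884.El Cfsg.Agent.H278.Cov Cfsg.Agent.H449.Reg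
open Cfsg.Agent.LieClassical Cfsg.Agent.LieClassical.OmegaReindex Cfsg.Agent.H781.Cov9
open Cfsg.Agent.H951 (fx cm Inv)
open Cfsg.Agent.LieClassical.OrthFinite (glEquiv glEquiv_apply)
open scoped MatrixGroups Matrix

universe v

section mat

variable {F : Type} [Field F] [Fintype F]

theorem geoCases (hodd : Odd (Fintype.card F)) :
    ∀ H : Subgroup (GL I9 F), IsMaximalIn (omegaGL (quadFormOdd 4 F)) H → GeoCases (quadFormOdd 4 F) H := by
  intro H hH
  have h := Cfsg.Agent.S5835.result hodd H hH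
  rcases h with h | h | h | h | h | h | h | h
  · exact Or.inl h
  · exact Or.inr (Or.inl h)
  · exact Or.inr (Or.inr (Or.inl h))
  · exact Or.inr (Or.inr (Or.inr (Or.inl h)))
  · exact Or.inr (Or.inr (Or.inr (Or.inr (Or.inl h))))
  · exact Or.inr (Or.inr (Or.inr (Or.inr (Or.inr (Or.inl h)))))
  · exact Or.inr (Or.inr (Or.inr (Or.inr (Or.inr (Or.inr (Or.inl h))))))
  · exact Or.inr (Or.inr (Or.inr (Or.inr (Or.inr (Or.inr (Or.inr (Cfsg.Agent.S5836.result hodd H hH h)))))))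

/-- **the list lemma for the standard form** -/
theorem nine_std {p a r b : ℕ} (hp : p.Prime) (hp2 : p ≠ 2) (ha : 1 ≤ a) (hF : Fintype.card F = p ^ a) (hr : PP p (a * 8) r)
    {H : Subgroup (GL I9 F)} (hH : H ≤ isometryGroup F (quadFormOdd 4 F)) {g : GL I9 F} (hg : g ∈ H)
    (ho : orderOf g = r ^ b) (hbig : 17 < r ^ b) :
    (∃ W : Submodule F (I9 → F), finrank F W = 8 ∧ H ≤ subspaceStabilizer W) ∨ omegaGL (quadFormOdd 4 F) ≤ H := by
  have hodd : Odd (Fintype.card F) := by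
    rw [hF]
    exact (hp.odd_of_ne_two hp2).pow
  have h2 := H390.two_ne_zero_of_odd hodd
  have key : (∀ H : Subgroup (GL I9 F), IsMaximalIn (omegaGL (⇑(quadOdd 4 F))) H → GeoCases (⇑(quadOdd 4 F)) H) →
      H ≤ isometryGroup F (⇑(quadOdd 4 F)) →
      (∃ W : Submodule F (I9 → F), finrank F W = 8 ∧ H ≤ subspaceStabilizer W) ∨ omegaGL (⇑(quadOdd 4 F)) ≤ H := by
    intro hG hH
    refine nine_mat (nondeg_iff.2 (quadOdd_nondegenerate h2)) ?_ hG hp ha hF hr hH hg ho hbig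
    intro g r hg hr hgr
    exact H957.mem_omegaGL_of_odd (quadOdd 4 F) (quadOdd_nondegenerate h2) (Or.inr (by rw [card_nine]; norm_num))
      hr g hg hgr
  rw [coe_quadOdd] at key
  exact key (geoCases hodd) hH

end mat

section abs

variable {F : Type} [Field F] [Fintype F] {V : Type v} [AddCommGroup V] [Module F V] [FiniteDimensional F V]
  {Q : QuadraticForm F V} {H : Subgroup (V ≃ₗ[F] V)}

/-- a coordinatisation by the standard form up to a scalar -/
theorem exists_coord (h2 : (2 : F) ≠ 0) (hQ : Nondeg Q) {m : ℕ} (hn : finrank F V = 2 * m + 1) :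
    ∃ (φ : V ≃ₗ[F] (Unit ⊕ (Fin m ⊕ Fin m) → F)) (c : F), c ≠ 0 ∧ ∀ v, tq Q φ v = c * quadFormOdd m F v := by
  let φ0 : V ≃ₗ[F] (Fin (2 * m + 1) → F) := LinearEquiv.ofFinrankEq _ _ (by
    rw [Module.finrank_fintype_fun_eq_card, Fintype.card_fin, hn])
  have hQ0 := H884.OddForm.isNondegenerate_of_nondeg _ (nondeg_tq hQ φ0)
  obtain ⟨e, c, hc, he⟩ := H956.OrthIndex.exists_odd_equiv h2 hQ0 (m := m) (Fintype.card_fin _)
  refine ⟨φ0.trans e.symm, c, hc, fun v => ?_⟩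
  rw [← he v]
  rfl

/-- Siegel elements in coordinates -/
theorem E_le_of_omega (hQ : Nondeg Q) {ι : Type} [Fintype ι] [DecidableEq ι] (φ : V ≃ₗ[F] (ι → F)) (hn5 : 5 ≤ Fintype.card ι)
    (h : omegaGL (⇑(tq Q φ)) ≤ H.map (cj φ).toMonoidHom) : E Q ≤ H := by
  have hQ'' := H884.OddForm.isNondegenerate_of_nondeg _ (nondeg_tq hQ φ)
  rw [E, Subgroup.closure_le]
  rintro _ ⟨u, w, hu, hw, rfl⟩
  have hu' : (H884.OmegaGL.bundle (⇑(tq Q φ)) hQ'') (φ u) = 0 := by
    change Q (φ.symm (φ u)) = 0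
    rw [φ.symm_apply_apply, hu]
  have hw' : polar (H884.OmegaGL.bundle (⇑(tq Q φ)) hQ'') (φ u) (φ w) = 0 := by
    change polar (tq Q φ) (φ u) (φ w) = 0
    rw [polar_tq, φ.symm_apply_apply, φ.symm_apply_apply, hw]
  have h1 : cj φ (siegel Q u w hu hw) ∈ omegaGL (⇑(tq Q φ)) := by
    rw [H884.OmegaGL.mem_omegaGL _ hQ'' hn5]
    have h2 : glEquiv ι F (cj φ (siegel Q u w hu hw)) = siegel _ (φ u) (φ w) hu' hw' := by
      apply LinearEquiv.ext
      intro v
      rw [glEquiv_apply, siegel_apply, cj_apply, siegel_apply, map_sub, map_sub, map_add, map_smul, map_smul, map_smul,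
        φ.apply_symm_apply]
      have e1 : ∀ a b : V, polar (H884.OmegaGL.bundle (⇑(tq Q φ)) hQ'') (φ a) (φ b) = polar Q a b := by
        intro a b
        change polar (tq Q φ) (φ a) (φ b) = _
        rw [polar_tq, φ.symm_apply_apply, φ.symm_apply_apply]
      have e2 : (H884.OmegaGL.bundle (⇑(tq Q φ)) hQ'') (φ w) = Q w := by
        change Q (φ.symm (φ w)) = _
        rw [φ.symm_apply_apply]
      have e3 : v = φ (φ.symm v) := (φ.apply_symm_apply v).symm
      rw [e2]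
      conv_rhs => rw [e3, e1, e1]
      rw [φ.apply_symm_apply]
    rw [h2]
    exact siegel_mem_E hu' hw'
  obtain ⟨x, hx, hxe⟩ := h h1
  have : x = siegel Q u w hu hw := (cj φ).injective hxe
  rw [← this]
  exact hx

/-- **(T7)** dimension nine, `q` odd, `r_8` -/
theorem lo_nine' {p f r a : ℕ} (hp : p.Prime) (hp2 : p ≠ 2) (hF : Fintype.card F = p ^ f) (hQ : Nondeg Q)
    (hn : finrank F V = 9) (hH : H ≤ O Q) {g : V ≃ₗ[F] V} (hg : g ∈ H) (hr : PP p (f * 8) r) (ho : orderOf g = r ^ a)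
    (hbig : 17 < r ^ a) :
    (∃ W : Submodule F V, finrank F W = 8 ∧ ∀ h ∈ H, ∀ w ∈ W, h w ∈ W) ∨ E Q ≤ H := by
  have hf : 1 ≤ f := by
    rcases Nat.eq_zero_or_pos f with h0 | h0
    · rw [h0, pow_zero] at hF
      have := Fintype.one_lt_card (α := F)
      omega
    · exact h0
  have hodd : Odd (Fintype.card F) := by
    rw [hF]
    exact (hp.odd_of_ne_two hp2).pow
  have h2 := H390.two_ne_zero_of_odd hodd
  obtain ⟨φ, c, hc, hφ⟩ := exists_coord (m := 4) h2 hQ (by rw [hn])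
  have hiso : H.map (cj φ).toMonoidHom ≤ isometryGroup F (quadFormOdd 4 F) := by
    rintro _ ⟨x, hx, rfl⟩
    rw [OrthFinite.mem_isometryGroup_iff]
    intro v
    have h1 := OrthFinite.mem_isometryGroup_iff.1 (cj_iso φ (hH hx)) v
    rw [hφ, hφ] at h1
    exact mul_left_cancel₀ hc h1
  have hog : orderOf (cj φ g) = r ^ a := by
    rw [← ho]
    exact MulEquiv.orderOf_eq (cj φ) g
  rcases nine_std hp hp2 hf hF hr hiso (g := cj φ g) ⟨g, hg, rfl⟩ hog hbig with ⟨W, hW8, hW⟩ | h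
  · left
    refine ⟨W.comap (φ : V →ₗ[F] (I9 → F)), ?_, ?_⟩
    · have h1 : W.comap (φ : V →ₗ[F] (I9 → F)) = W.map (φ.symm : (I9 → F) →ₗ[F] V) := by
        ext v
        rw [Submodule.mem_comap, Submodule.mem_map]
        constructor
        · intro h
          exact ⟨φ v, h, φ.symm_apply_apply v⟩
        · rintro ⟨w, hw, rfl⟩
          change φ (φ.symm w) ∈ W
          rwa [φ.apply_symm_apply]
      rw [h1, LinearEquiv.finrank_map_eq, hW8]
    · intro h hh w hw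
      have h1 : cj φ h ∈ subspaceStabilizer W := hW ⟨h, hh, rfl⟩
      have h2 : (cj φ h : Matrix I9 I9 F) *ᵥ φ w ∈ W := (h1 (φ w)).1 hw
      rw [cj_apply'] at h2
      exact h2
  · right
    refine E_le_of_omega hQ φ (by rw [card_nine]; norm_num) ?_
    have h3 : omegaGL (⇑(tq Q φ)) = omegaGL (quadFormOdd 4 F) := H925.Nat.omegaGL_smul hc hφ
    rw [h3]
    exact h

/-- **(T7)** dimension nine, `q` odd, `q ≥ 5`, `r_8` -/
theorem lo_nine {p f r a : ℕ} (hp : p.Prime) (hp2 : p ≠ 2) (hF : Fintype.card F = p ^ f) (_ : 5 ≤ p ^ f) (hQ : Nondeg Q)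
    (hn : finrank F V = 9) (hH : H ≤ O Q) {g : V ≃ₗ[F] V} (hg : g ∈ H) (hr : PP p (f * 8) r) (ho : orderOf g = r ^ a)
    (hbig : 17 < r ^ a) :
    (∃ W : Submodule F V, W ≠ ⊥ ∧ W ≠ ⊤ ∧ ∀ h ∈ H, ∀ w ∈ W, h w ∈ W) ∨ E Q ≤ H := by
  rcases lo_nine' hp hp2 hF hQ hn hH hg hr ho hbig with ⟨W, hW8, hW⟩ | h
  · left
    refine ⟨W, ?_, ?_, hW⟩
    · rintro rfl
      rw [finrank_bot] at hW8
      omega
    · rintro rfl
      rw [finrank_top, hn] at hW8
      omega
  · exact Or.inr h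

end abs

end Cfsg.Agent.H269.Rg
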