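import Cfsg.Agent.H781.Cov9.Main
import Cfsg.Agent.H876.Stab

/-!
# `Ω_9(q)`, `q` odd: the maximal subgroups over an element of order `r ^ a > 17`, `r` primitive for `q ^ 8 - 1`

`over_big` : they are in the stabiliser of an eight-dimensional subspace.
-/

set_option autoImplicit false
set_option linter.unusedSectionVars false

namespace Cfsg.Agent.H269.Rg

open Module QuadraticMap Cfsg Cfsg.Geo Cfsg.Agent.LieClassical.OrthCore Cfsg.Agent.H955 Cfsg.Agent.H954.TSing
open Cfsg.Agent.H884.El Cfsg.Agent.H781.Cov9 Cfsg.Agent.H278.Cov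
open Cfsg.Agent.H951 (fx cm Inv)
open scoped MatrixGroups Matrix

universe u

section core

variable {ι : Type} [Fintype ι] [DecidableEq ι] {F : Type u} [Field F] [Fintype F] {H P : Subgroup (GL ι F)}

/-- the order modulo scalars of an `r`-element divides the order of the automorphism group of the core -/
theorem pow_dvd_aut_core (h : IsResidualCore H P) {g : GL ι F} (hg : g ∈ H) {r a : ℕ} (hr : r.Prime)
    (hgr : g ^ r ^ (a + 1) = 1) (hgs : g ^ r ^ a ∉ scalars ι F) :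
    r ^ (a + 1) ∣ Nat.card (MulAut (P ⧸ (scalars ι F).subgroupOf P)) := by
  obtain ⟨φ, hφ⟩ := exists_core_inj h
  have := Fact.mk hr
  have h1 : orderOf (φ (QuotientGroup.mk' ((scalars ι F).subgroupOf H) ⟨g, hg⟩)) = r ^ (a + 1) := by
    apply orderOf_eq_prime_pow
    · intro h2
      rw [← map_pow, ← map_pow] at h2
      apply hgs
      have h3 : QuotientGroup.mk' ((scalars ι F).subgroupOf H) ((⟨g, hg⟩ : H) ^ r ^ a) = 1 := hφ (h2.trans (map_one φ).symm)
      have h4 : ((⟨g, hg⟩ : H) ^ r ^ a) ∈ (scalars ι F).subgroupOf H := (QuotientGroup.eq_one_iff _).1 h3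
      exact h4
    · have h2 : (⟨g, hg⟩ : H) ^ r ^ (a + 1) = 1 := Subtype.ext hgr
      rw [← map_pow, ← map_pow, h2, map_one, map_one]
  rw [← h1]
  exact orderOf_dvd_natCard _

end core

section nine

variable {F : Type u} [Field F] [Fintype F] {Q : QuadraticForm F (I9 → F)}

/-- the prime power orders modulo scalars divide `N` -/
def Bp (H : Subgroup (GL I9 F)) (N : ℕ) : Prop :=
  ∀ (g : GL I9 F) (r a : ℕ), g ∈ H → r.Prime → g ^ r ^ (a + 1) = 1 → g ^ r ^ a ∉ scalars _ F → r ^ (a + 1) ∣ N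

theorem Bp.of_core {H P : Subgroup (GL I9 F)} (h : IsResidualCore H P) {N : ℕ}
    (hN : Nat.card (MulAut (P ⧸ (scalars I9 F).subgroupOf P)) ∣ N) : Bp H N :=
  fun _ _ _ hg hr h1 h2 => (pow_dvd_aut_core h hg hr h1 h2).trans hN

/-- residual groups do not contain the element -/
theorem res_big {H : Subgroup (GL I9 F)} (h : ResCases H) {p a r b : ℕ} (hp : p.Prime)
    (ha : 1 ≤ a) (hF : Fintype.card F = p ^ a) (hr : PP p (a * 8) r) {g : GL I9 F} (hg : g ∈ H)
    (hg1 : g ^ r ^ (b + 1) = 1) (hx : Elt Q (g ^ r ^ b) r 8) (hbig : 17 < r ^ (b + 1)) : False := by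
  have hns := hx.not_scalar (by rw [card_nine]; norm_num)
  have hxH : g ^ r ^ b ∈ H := H.pow_mem hg _
  obtain ⟨h17, -⟩ := res_a h hp ha hF hr hx hxH
  subst h17
  have key : ∀ N : ℕ, Bp H N → 17 ^ 2 ∣ N := by
    intro N hN
    have h1 := hN g 17 b hg hr.prime hg1 hns
    have h2 : 2 ≤ b + 1 := by
      by_contra hcon
      have : b = 0 := by omega
      subst this
      norm_num at hbig
    exact (pow_dvd_pow 17 h2).trans h1
  have key' : ∀ N : ℕ, Bp H N → 17 ∣ N := fun N hN => (dvd_pow_self 17 (by norm_num)).trans (key N hN)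
  obtain ⟨P, p', hcore, hp', hch, h⟩ := h
  have hpf := Fact.mk hp
  have hch2 : CharP F p := charP_of_card_eq_prime_pow hF
  have hpp : p' = p := CharP.eq F hch hch2
  subst hpp
  rcases h with ⟨⟨K, _, _, hK, ⟨e⟩⟩, h1⟩ | ⟨⟨e⟩, h1⟩ | ⟨⟨e⟩, h1, h5, -⟩ | ⟨⟨e⟩, h1⟩ | ⟨⟨e⟩, h1⟩ | ⟨⟨K, _, _, hK, ⟨e⟩⟩, h1⟩
  · have h2 := key' _ (Bp.of_core hcore dvd_rfl)
    rw [card_mulAut_congr e, card_mulAut_psl (K := K) (p := 2) (f := 3) Nat.prime_two (by norm_num)
        (by rw [hK]; norm_num) (by norm_num)] at h2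
    norm_num at h2
  · have h17 : Fact (Nat.Prime 17) := ⟨by norm_num⟩
    have h2 := key _ (Bp.of_core hcore dvd_rfl)
    rw [card_mulAut_congr e, card_mulAut_psl (K := ZMod 17) (p := 17) (f := 1) (by norm_num) (by norm_num)
        (by rw [ZMod.card, pow_one]) (by norm_num)] at h2
    norm_num at h2
  · have h2 : 17 ∣ Nat.factorial 10 := key' _ (Bp.of_core hcore (by
      rw [card_mulAut_congr e]
      exact card_mulAut_alt 10 (by norm_num)))
    have h3 := (hr.prime.dvd_factorial).1 h2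
    omega
  · have h2 : 17 ∣ Nat.factorial 11 := key' _ (Bp.of_core hcore (by
      rw [card_mulAut_congr e]
      exact card_mulAut_alt 11 (by norm_num)))
    have h3 := (hr.prime.dvd_factorial).1 h2
    omega
  · have h2 := key' _ (Bp.of_core hcore dvd_rfl)
    rw [card_mulAut_congr e, card_mulAut_psl (K := F) (p := p') (f := a * 1) hp (by omega)
        (by rw [hF, mul_one]) ?_] at h2
    · exact not_dvd_psl hr hp ha le_rfl (by norm_num) h2
    · have h2 : p' ^ 1 ≤ p' ^ (a * 1) := Nat.pow_le_pow_right hp.one_le (by omega)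
      rw [pow_one] at h2
      omega
  · have h2 := key' _ (Bp.of_core hcore dvd_rfl)
    rw [card_mulAut_congr e, card_mulAut_psl (K := K) (p := p') (f := a * 2) hp (by omega)
        (by rw [hK, hF, ← pow_mul]) ?_] at h2
    · exact not_dvd_psl hr hp ha (by norm_num) (by norm_num) h2
    · have h2 : p' ^ 2 ≤ p' ^ (a * 2) := Nat.pow_le_pow_right hp.one_le (by omega)
      have h3 : 2 ^ 2 ≤ p' ^ 2 := Nat.pow_le_pow_left hp.two_le 2
      omega

/-- **the maximal overgroups** -/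
theorem over_big (hQ : Nondeg Q) {H : Subgroup (GL I9 F)} (h : GeoCases (⇑Q) H) {p a r b : ℕ} (hp : p.Prime)
    (ha : 1 ≤ a) (hF : Fintype.card F = p ^ a) (hr : PP p (a * 8) r) {g : GL I9 F} (hg : g ∈ H)
    (hg1 : g ^ r ^ (b + 1) = 1) (hx : Elt Q (g ^ r ^ b) r 8) (hbig : 17 < r ^ (b + 1)) :
    ∃ W : Submodule F (I9 → F), finrank F W = 8 ∧ H ≤ subspaceStabilizer W := by
  have hxH : g ^ r ^ b ∈ H := H.pow_mem hg _
  set x := g ^ r ^ b with hxdef
  have h17 := num8 hr ha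
  have hrq : PP (Nat.card F) 8 r := by rw [Nat.card_eq_fintype_card, hF]; exact hr.of_pow ha
  obtain ⟨k1, k2, k3, k4⟩ := kill hp ha hF hr (by norm_num) hx hxH
  have hfin : finrank F (I9 → F) = 9 := by rw [finrank_V, card_nine]
  have hadd := hx.finrank_add
  rw [card_nine] at hadd
  obtain ⟨hcm, hcmP⟩ := hx.iso.even_case hQ (lin_ne_one hx.ne) hrq (by decide) (by rw [hfin]; norm_num)
  have hnfx := nondeg_fx hQ hx.iso.iso hx.iso.ne0 hx.iso.pow
  rcases h with ⟨W, hW0, hWs, hH⟩ | ⟨W, hW0, hWe, hWn, -, hH⟩ | ⟨-, D, hD, hH⟩ | ⟨-, D, hD, hH⟩ | ⟨K, hK, -, hH⟩ |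
    ⟨F₀, s, P, hs, hc, -, hH⟩ | ⟨-, i, P, f₁, -, -, hH⟩ | h
  · exfalso
    have h1 := hx.iso.ts_le hQ (lin_ne_one hx.ne) hrq hcm (inv_of_mem (le_left hH hxH)) hWs
    have h2 := Submodule.finrank_mono h1
    have h3 : finrank F W ≠ 0 := fun h => hW0 (Submodule.finrank_eq_zero.1 h)
    have h4 : W = fx (lin x) := Submodule.eq_of_le_of_finrank_eq h1 (by omega)
    refine ts_not_nondeg (Q := Q) (W := W) (U := fx (lin x)) hWs (by rw [h4]) ?_ hnfx
    rw [← h4]; exact hW0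
  · rcases hx.iso.le_or hrq hcm (inv_of_mem (le_left hH hxH)) with h1 | h1
    · exfalso
      have h2 := Submodule.finrank_mono h1
      have h3 : finrank F W ≠ 0 := fun h => hW0 (Submodule.finrank_eq_zero.1 h)
      obtain ⟨k, hk⟩ := hWe
      omega
    · have h2 := Submodule.finrank_mono h1
      have h3 : finrank F W ≤ 9 := by rw [← hfin]; exact Submodule.finrank_le _
      obtain ⟨k, hk⟩ := hWe
      exact ⟨W, by omega, le_left hH⟩
  · have := k1 D hD (le_left hH)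
    omega
  · have := k2 D hD (le_left hH)
    omega
  · exfalso
    have h1 := hx.three_dvd (by omega) hK (le_left hH hxH)
    omega
  · exact (k3 F₀ s P hs hc (le_left hH)).elim
  · have := k4 i P (le_left hH)
    omega
  · exact (res_big h hp ha hF hr hg hg1 hx hbig).elim

/-- dimension of the commutator space -/
theorem elt_of (hQ : Nondeg Q) {p a r : ℕ} (ha : 1 ≤ a) (hF : Fintype.card F = p ^ a)
    (hr : PP p (a * 8) r) {x : GL I9 F} (hx : x ∈ isometryGroup F (⇑Q)) (hxr : x ^ r = 1) (hx1 : x ≠ 1) :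
    Elt Q x r 8 := by
  have hrq : PP (Nat.card F) 8 r := by rw [Nat.card_eq_fintype_card, hF]; exact hr.of_pow ha
  have hfin : finrank F (I9 → F) = 9 := by rw [finrank_V, card_nine]
  have h1 : Elt Q x r (finrank F (cm (lin x))) := Elt.of hrq (by norm_num) hx hxr hx1 rfl
  obtain ⟨hcm, -⟩ := h1.iso.even_case hQ (lin_ne_one hx1) hrq (by decide) (by rw [hfin]; norm_num)
  exact Elt.of hrq (by norm_num) hx hxr hx1 hcm

/-- **the list lemma for matrices** -/
theorem nine_mat (hQ : Nondeg Q)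
    (hΩ : ∀ (g : GL I9 F) (r : ℕ), g ∈ isometryGroup F (⇑Q) → Odd r → g ^ r = 1 → g ∈ omegaGL (⇑Q))
    (hGeo : ∀ H : Subgroup (GL I9 F), IsMaximalIn (omegaGL (⇑Q)) H → GeoCases (⇑Q) H)
    {p a r b : ℕ} (hp : p.Prime) (ha : 1 ≤ a) (hF : Fintype.card F = p ^ a) (hr : PP p (a * 8) r)
    {H : Subgroup (GL I9 F)} (hH : H ≤ isometryGroup F (⇑Q)) {g : GL I9 F} (hg : g ∈ H)
    (ho : orderOf g = r ^ b) (hbig : 17 < r ^ b) :
    (∃ W : Submodule F (I9 → F), finrank F W = 8 ∧ H ≤ subspaceStabilizer W) ∨ omegaGL (⇑Q) ≤ H := by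
  have hrq : PP (Nat.card F) 8 r := by rw [Nat.card_eq_fintype_card, hF]; exact hr.of_pow ha
  have hrodd : Odd r := hrq.odd (by norm_num)
  obtain ⟨b, rfl⟩ : ∃ c, b = c + 1 := by
    cases b with
    | zero => norm_num at hbig
    | succ c => exact ⟨c, rfl⟩
  have hg1 : g ^ r ^ (b + 1) = 1 := by rw [← ho]; exact pow_orderOf_eq_one g
  have hx1 : g ^ r ^ b ≠ 1 := by
    intro h1
    have h2 := orderOf_dvd_of_pow_eq_one h1
    rw [ho] at h2
    have h3 := Nat.le_of_dvd (Nat.pow_pos hr.prime.pos) h2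
    have h4 : r ^ b < r ^ (b + 1) := Nat.pow_lt_pow_right hr.prime.one_lt (Nat.lt_succ_self b)
    omega
  have hxr : (g ^ r ^ b) ^ r = 1 := by rw [← pow_mul, ← pow_succ]; exact hg1
  have hx : Elt Q (g ^ r ^ b) r 8 := elt_of hQ ha hF hr (Subgroup.pow_mem _ (hH hg) _) hxr hx1
  set x := g ^ r ^ b with hxdef
  rcases eq_top_or_exists_le_coatom (H.subgroupOf (omegaGL (⇑Q))) with h | ⟨N, hN, hKN⟩
  · right
    intro y hy
    have : (⟨y, hy⟩ : omegaGL (⇑Q)) ∈ H.subgroupOf (omegaGL (⇑Q)) := by rw [h]; exact Subgroup.mem_top _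
    exact this
  · left
    have hmemN : ∀ y : GL I9 F, y ∈ H → ∀ n, Odd n → y ^ n = 1 → y ∈ N.map (omegaGL (⇑Q)).subtype := by
      intro y hy n hn hyn
      have hyΩ := hΩ y n (hH hy) hn hyn
      exact ⟨⟨y, hyΩ⟩, hKN hy, rfl⟩
    obtain ⟨W, hW8, hle⟩ := over_big hQ (hGeo _ (isMaximalIn_map hN)) hp ha hF hr
      (hmemN g hg _ (hrodd.pow) hg1) hg1 hx hbig
    refine ⟨W, hW8, fun h hh => ?_⟩
    have hcmW : ∀ y : GL I9 F, Elt Q y r 8 → y ∈ N.map (omegaGL (⇑Q)).subtype → cm (lin y) = W := by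
      intro y hy hyN
      have hadd := hy.finrank_add
      rw [card_nine] at hadd
      rcases hy.iso.le_or hrq hy.dim (inv_of_mem (hle hyN)) with h1 | h1
      · have h3 := Submodule.finrank_mono h1
        omega
      · exact Submodule.eq_of_le_of_finrank_eq h1 (by rw [hy.dim, hW8])
    have e1 : cm (lin x) = W := hcmW x hx (hmemN x (H.pow_mem hg _) r hrodd hxr)
    have hconj := hx.conj (hH hh)
    have e2 : cm (lin (h * x * h⁻¹)) = W := hcmW _ hconj (hmemN _ (H.mul_mem (H.mul_mem hh (H.pow_mem hg _)) (H.inv_mem hh))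
      r hrodd hconj.pow)
    apply Cfsg.Agent.H876.mem_stab_of_le
    intro v hv
    rw [← e1] at hv
    obtain ⟨w, rfl⟩ := H951.mem_cm.1 hv
    rw [← e2]
    refine H951.mem_cm.2 ⟨lin h w, ?_⟩
    rw [← lin_apply, map_sub, ← lin_mul_apply, ← lin_mul_apply, inv_mul_cancel_right]

end nine

end Cfsg.Agent.H269.Rg
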